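import Cfsg.Agent.Spor.Fi120.D0

set_option autoImplicit false
set_option maxRecDepth 100000000
set_option Elab.async false

namespace Cfsg.Agent.Spor.Fi120

theorem ok0 : Net.okb 7 n0 = true := by decide +kernel

theorem ok1 : Net.okb 7 n1 = true := by decide +kernel

theorem ok2 : Net.okb 7 n2 = true := by decide +kernel

theorem ok3 : Net.okb 7 n3 = true := by decide +kernel

theorem ok4 : Net.okb 7 n4 = true := by decide +kernel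

theorem ok5 : Net.okb 7 n5 = true := by decide +kernel

theorem ok6 : Net.okb 7 n6 = true := by decide +kernel

theorem ok7 : Net.okb 7 n7 = true := by decide +kernel

theorem ok8 : Net.okb 7 n8 = true := by decide +kernel

theorem rel0 : T.rel 7 [1, 1] 0 7 = true := by decide +kernel

theorem rel1 : T.rel 7 [2, 2] 0 7 = true := by decide +kernel

theorem rel2 : T.rel 7 [3, 3] 0 7 = true := by decide +kernel

theorem rel3 : T.rel 7 [4, 4] 0 7 = true := by decide +kernel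

theorem rel4 : T.rel 7 [5, 5] 0 7 = true := by decide +kernel

theorem rel5 : T.rel 7 [6, 6] 0 7 = true := by decide +kernel

theorem rel6 : T.rel 7 [7, 7] 0 7 = true := by decide +kernel

theorem rel7 : T.rel 7 [8, 8] 0 7 = true := by decide +kernel

theorem rel8 : T.rel 7 [9, 9] 0 7 = true := by decide +kernel

theorem rel9 : T.rel 7 [4, 3, 4, 3, 4, 3] 0 7 = true := by decide +kernel

theorem rel10 : T.rel 7 [5, 3, 5, 3] 0 7 = true := by decide +kernel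

theorem rel11 : T.rel 7 [6, 3, 6, 3] 0 7 = true := by decide +kernel

theorem rel12 : T.rel 7 [7, 3, 7, 3] 0 7 = true := by decide +kernel

theorem rel13 : T.rel 7 [8, 3, 8, 3] 0 7 = true := by decide +kernel

theorem rel14 : T.rel 7 [9, 3, 9, 3] 0 7 = true := by decide +kernel

theorem rel15 : T.rel 7 [1, 3, 1, 3] 0 7 = true := by decide +kernel

theorem rel16 : T.rel 7 [2, 3, 2, 3, 2, 3] 0 7 = true := by decide +kernel

theorem rel17 : T.rel 7 [5, 4, 5, 4, 5, 4] 0 7 = true := by decide +kernel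

theorem rel18 : T.rel 7 [6, 4, 6, 4] 0 7 = true := by decide +kernel

theorem rel19 : T.rel 7 [7, 4, 7, 4] 0 7 = true := by decide +kernel

theorem rel20 : T.rel 7 [8, 4, 8, 4] 0 7 = true := by decide +kernel

theorem rel21 : T.rel 7 [9, 4, 9, 4] 0 7 = true := by decide +kernel

theorem rel22 : T.rel 7 [1, 4, 1, 4] 0 7 = true := by decide +kernel

theorem rel23 : T.rel 7 [2, 4, 2, 4] 0 7 = true := by decide +kernel

theorem rel24 : T.rel 7 [6, 5, 6, 5, 6, 5] 0 7 = true := by decide +kernel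

theorem rel25 : T.rel 7 [7, 5, 7, 5] 0 7 = true := by decide +kernel

theorem rel26 : T.rel 7 [8, 5, 8, 5] 0 7 = true := by decide +kernel

theorem rel27 : T.rel 7 [9, 5, 9, 5] 0 7 = true := by decide +kernel

theorem rel28 : T.rel 7 [1, 5, 1, 5] 0 7 = true := by decide +kernel

theorem rel29 : T.rel 7 [2, 5, 2, 5] 0 7 = true := by decide +kernel

theorem rel30 : T.rel 7 [7, 6, 7, 6, 7, 6] 0 7 = true := by decide +kernel

theorem rel31 : T.rel 7 [8, 6, 8, 6] 0 7 = true := by decide +kernel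

theorem rel32 : T.rel 7 [9, 6, 9, 6, 9, 6] 0 7 = true := by decide +kernel

theorem rel33 : T.rel 7 [1, 6, 1, 6] 0 7 = true := by decide +kernel

theorem rel34 : T.rel 7 [2, 6, 2, 6] 0 7 = true := by decide +kernel

theorem rel35 : T.rel 7 [8, 7, 8, 7, 8, 7] 0 7 = true := by decide +kernel

theorem rel36 : T.rel 7 [9, 7, 9, 7] 0 7 = true := by decide +kernel

theorem rel37 : T.rel 7 [1, 7, 1, 7] 0 7 = true := by decide +kernel

theorem rel38 : T.rel 7 [2, 7, 2, 7] 0 7 = true := by decide +kernel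

theorem rel39 : T.rel 7 [9, 8, 9, 8] 0 7 = true := by decide +kernel

theorem rel40 : T.rel 7 [1, 8, 1, 8] 0 7 = true := by decide +kernel

theorem rel41 : T.rel 7 [2, 8, 2, 8] 0 7 = true := by decide +kernel

theorem rel42 : T.rel 7 [1, 9, 1, 9] 0 7 = true := by decide +kernel

theorem rel43 : T.rel 7 [2, 9, 2, 9] 0 7 = true := by decide +kernel

theorem rel44 : T.rel 7 [2, 1, 2, 1, 2, 1] 0 7 = true := by decide +kernel

theorem rel45 : T.rel 7 [3, 4, 5, 6, 7, 8, 9, 3, 4, 5, 6, 7, 8, 9, 3, 4, 5, 6, 7, 8, 9, 3, 4, 5, 6, 7, 8, 9, 3, 4, 5, 6, 7, 8, 9, 3, 4, 5, 6, 7, 8, 9, 3, 4, 5, 6, 7, 8, 9, 3, 4, 5, 6, 7, 8, 9, 3, 4, 5, 6, 7, 8, 9, 1] 0 7 = true := by decide +kernel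

theorem hcov : T.treeCov (ones 120) L 1 = true := by decide +kernel

theorem hg : lall (fun z => band (memL L z) (band (sub (ones 120) (T.let z).cl) (T.closed (ones 120) z))) gs = true := by decide +kernel

theorem rot1_1 : T.rot 1 [1] (sel (ones 120) ip1 1) = true := by decide +kernel

theorem rot1_1r : band (Rule.ok (2 * 9) EX RL ⟨1 :: [1], [], 37, false⟩) (lall (memL L) [1]) = true := by decide +kernel

theorem rot1_2 : T.rot 1 [3, 1, 3] (sel (ones 120) ip1 2) = true := by decide +kernel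

theorem rot1_2r : band (Rule.ok (2 * 9) EX RL ⟨1 :: [3, 1, 3], [], 6, true⟩) (lall (memL L) [3, 1, 3]) = true := by decide +kernel

theorem rot1_3 : T.rot 1 [4, 1, 4] (sel (ones 120) ip1 3) = true := by decide +kernel

theorem rot1_3r : band (Rule.ok (2 * 9) EX RL ⟨1 :: [4, 1, 4], [], 13, true⟩) (lall (memL L) [4, 1, 4]) = true := by decide +kernel

theorem rot1_4 : T.rot 1 [5, 1, 5] (sel (ones 120) ip1 4) = true := by decide +kernel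

theorem rot1_4r : band (Rule.ok (2 * 9) EX RL ⟨1 :: [5, 1, 5], [], 19, true⟩) (lall (memL L) [5, 1, 5]) = true := by decide +kernel

theorem rot1_5 : T.rot 1 [6, 1, 6] (sel (ones 120) ip1 5) = true := by decide +kernel

theorem rot1_5r : band (Rule.ok (2 * 9) EX RL ⟨1 :: [6, 1, 6], [], 24, true⟩) (lall (memL L) [6, 1, 6]) = true := by decide +kernel

theorem rot1_6 : T.rot 1 [7, 1, 7] (sel (ones 120) ip1 6) = true := by decide +kernel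

theorem rot1_6r : band (Rule.ok (2 * 9) EX RL ⟨1 :: [7, 1, 7], [], 28, true⟩) (lall (memL L) [7, 1, 7]) = true := by decide +kernel

theorem rot1_7 : T.rot 1 [8, 1, 8] (sel (ones 120) ip1 7) = true := by decide +kernel

theorem rot1_7r : band (Rule.ok (2 * 9) EX RL ⟨1 :: [8, 1, 8], [], 31, true⟩) (lall (memL L) [8, 1, 8]) = true := by decide +kernel

theorem rot1_8 : T.rot 1 [9, 1, 9] (sel (ones 120) ip1 8) = true := by decide +kernel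

theorem rot1_8r : band (Rule.ok (2 * 9) EX RL ⟨1 :: [9, 1, 9], [], 33, true⟩) (lall (memL L) [9, 1, 9]) = true := by decide +kernel

theorem rot1_9 : T.rot 1 [2, 1, 2, 1, 2] (sel (ones 120) ip1 9) = true := by decide +kernel

theorem rot1_9r : band (Rule.ok (2 * 9) EX RL ⟨1 :: [2, 1, 2, 1, 2], [], 35, false⟩) (lall (memL L) [2, 1, 2, 1, 2]) = true := by decide +kernel

theorem rot1_10 : T.rot 1 [3, 4, 5, 6, 7, 8, 9, 3, 4, 5, 6, 7, 8, 9, 3, 4, 5, 6, 7, 8, 9, 3, 4, 5, 6, 7, 8, 9, 3, 4, 5, 6, 7, 8, 9, 3, 4, 5, 6, 7, 8, 9, 3, 4, 5, 6, 7, 8, 9, 3, 4, 5, 6, 7, 8, 9, 3, 4, 5, 6, 7, 8, 9] (sel (ones 120) ip1 10) = true := by decide +kernel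

theorem rot1_10r : band (Rule.ok (2 * 9) EX RL ⟨1 :: [3, 4, 5, 6, 7, 8, 9, 3, 4, 5, 6, 7, 8, 9, 3, 4, 5, 6, 7, 8, 9, 3, 4, 5, 6, 7, 8, 9, 3, 4, 5, 6, 7, 8, 9, 3, 4, 5, 6, 7, 8, 9, 3, 4, 5, 6, 7, 8, 9, 3, 4, 5, 6, 7, 8, 9, 3, 4, 5, 6, 7, 8, 9], [0], 36, true⟩) (lall (memL L) [3, 4, 5, 6, 7, 8, 9, 3, 4, 5, 6, 7, 8, 9, 3, 4, 5, 6, 7, 8, 9, 3, 4, 5, 6, 7, 8, 9, 3, 4, 5, 6, 7, 8, 9, 3, 4, 5, 6, 7, 8, 9, 3, 4, 5, 6, 7, 8, 9, 3, 4, 5, 6, 7, 8, 9, 3, 4, 5, 6, 7, 8, 9]) = true := by decide +kernel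

theorem rot1_11 : T.rot 1 [9, 8, 7, 6, 5, 4, 3, 9, 8, 7, 6, 5, 4, 3, 9, 8, 7, 6, 5, 4, 3, 9, 8, 7, 6, 5, 4, 3, 9, 8, 7, 6, 5, 4, 3, 9, 8, 7, 6, 5, 4, 3, 9, 8, 7, 6, 5, 4, 3, 9, 8, 7, 6, 5, 4, 3, 9, 8, 7, 6, 5, 4, 3] (sel (ones 120) ip1 11) = true := by decide +kernel

theorem rot1_11r : band (Rule.ok (2 * 9) EX RL ⟨1 :: [9, 8, 7, 6, 5, 4, 3, 9, 8, 7, 6, 5, 4, 3, 9, 8, 7, 6, 5, 4, 3, 9, 8, 7, 6, 5, 4, 3, 9, 8, 7, 6, 5, 4, 3, 9, 8, 7, 6, 5, 4, 3, 9, 8, 7, 6, 5, 4, 3, 9, 8, 7, 6, 5, 4, 3, 9, 8, 7, 6, 5, 4, 3], [], 36, false⟩) (lall (memL L) [9, 8, 7, 6, 5, 4, 3, 9, 8, 7, 6, 5, 4, 3, 9, 8, 7, 6, 5, 4, 3, 9, 8, 7, 6, 5, 4, 3, 9, 8, 7, 6, 5, 4, 3, 9, 8, 7, 6, 5, 4, 3, 9, 8, 7, 6, 5, 4, 3, 9, 8, 7, 6, 5, 4, 3, 9, 8, 7, 6, 5, 4, 3]) = true := by decide +kernel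

theorem cov1 : T.cover 1 [(sel (ones 120) ip1 1), (sel (ones 120) ip1 2), (sel (ones 120) ip1 3), (sel (ones 120) ip1 4), (sel (ones 120) ip1 5), (sel (ones 120) ip1 6), (sel (ones 120) ip1 7), (sel (ones 120) ip1 8), (sel (ones 120) ip1 9), (sel (ones 120) ip1 10), (sel (ones 120) ip1 11)] = true := by decide +kernel

theorem tl1 : T.treeLt 7 1 = true := by decide +kernel

theorem rot2_1 : T.rot 2 [2] (sel (ones 120) ip2 1) = true := by decide +kernel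

theorem rot2_1r : band (Rule.ok (2 * 9) EX RL ⟨2 :: [2], [], 37, false⟩) (lall (memL L) [2]) = true := by decide +kernel

theorem rot2_2 : T.rot 2 [4, 2, 4] (sel (ones 120) ip2 2) = true := by decide +kernel

theorem rot2_2r : band (Rule.ok (2 * 9) EX RL ⟨2 :: [4, 2, 4], [], 14, true⟩) (lall (memL L) [4, 2, 4]) = true := by decide +kernel

theorem rot2_3 : T.rot 2 [5, 2, 5] (sel (ones 120) ip2 3) = true := by decide +kernel

theorem rot2_3r : band (Rule.ok (2 * 9) EX RL ⟨2 :: [5, 2, 5], [], 20, true⟩) (lall (memL L) [5, 2, 5]) = true := by decide +kernel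

theorem rot2_4 : T.rot 2 [6, 2, 6] (sel (ones 120) ip2 4) = true := by decide +kernel

theorem rot2_4r : band (Rule.ok (2 * 9) EX RL ⟨2 :: [6, 2, 6], [], 25, true⟩) (lall (memL L) [6, 2, 6]) = true := by decide +kernel

theorem rot2_5 : T.rot 2 [7, 2, 7] (sel (ones 120) ip2 5) = true := by decide +kernel

theorem rot2_5r : band (Rule.ok (2 * 9) EX RL ⟨2 :: [7, 2, 7], [], 29, true⟩) (lall (memL L) [7, 2, 7]) = true := by decide +kernel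

theorem rot2_6 : T.rot 2 [8, 2, 8] (sel (ones 120) ip2 6) = true := by decide +kernel

theorem rot2_6r : band (Rule.ok (2 * 9) EX RL ⟨2 :: [8, 2, 8], [], 32, true⟩) (lall (memL L) [8, 2, 8]) = true := by decide +kernel

theorem rot2_7 : T.rot 2 [9, 2, 9] (sel (ones 120) ip2 7) = true := by decide +kernel

theorem rot2_7r : band (Rule.ok (2 * 9) EX RL ⟨2 :: [9, 2, 9], [], 34, true⟩) (lall (memL L) [9, 2, 9]) = true := by decide +kernel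

theorem rot2_8 : T.rot 2 [3, 2, 3, 2, 3] (sel (ones 120) ip2 8) = true := by decide +kernel

theorem rot2_8r : band (Rule.ok (2 * 9) EX RL ⟨2 :: [3, 2, 3, 2, 3], [], 7, true⟩) (lall (memL L) [3, 2, 3, 2, 3]) = true := by decide +kernel

theorem rot2_9 : T.rot 2 [1, 2, 1, 2, 1] (sel (ones 120) ip2 9) = true := by decide +kernel

theorem rot2_9r : band (Rule.ok (2 * 9) EX RL ⟨2 :: [1, 2, 1, 2, 1], [], 35, true⟩) (lall (memL L) [1, 2, 1, 2, 1]) = true := by decide +kernel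

theorem cov2 : T.cover 2 [(sel (ones 120) ip2 1), (sel (ones 120) ip2 2), (sel (ones 120) ip2 3), (sel (ones 120) ip2 4), (sel (ones 120) ip2 5), (sel (ones 120) ip2 6), (sel (ones 120) ip2 7), (sel (ones 120) ip2 8), (sel (ones 120) ip2 9)] = true := by decide +kernel

theorem tl2 : T.treeLt 7 2 = true := by decide +kernel

theorem rot3_1 : T.rot 3 [3] (sel (ones 120) ip3 1) = true := by decide +kernel

theorem rot3_1r : band (Rule.ok (2 * 9) EX RL ⟨3 :: [3], [], 37, false⟩) (lall (memL L) [3]) = true := by decide +kernel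

theorem rot3_2 : T.rot 3 [5, 3, 5] (sel (ones 120) ip3 2) = true := by decide +kernel

theorem rot3_2r : band (Rule.ok (2 * 9) EX RL ⟨3 :: [5, 3, 5], [], 1, false⟩) (lall (memL L) [5, 3, 5]) = true := by decide +kernel

theorem rot3_3 : T.rot 3 [6, 3, 6] (sel (ones 120) ip3 3) = true := by decide +kernel

theorem rot3_3r : band (Rule.ok (2 * 9) EX RL ⟨3 :: [6, 3, 6], [], 2, false⟩) (lall (memL L) [6, 3, 6]) = true := by decide +kernel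

theorem rot3_4 : T.rot 3 [7, 3, 7] (sel (ones 120) ip3 4) = true := by decide +kernel

theorem rot3_4r : band (Rule.ok (2 * 9) EX RL ⟨3 :: [7, 3, 7], [], 3, false⟩) (lall (memL L) [7, 3, 7]) = true := by decide +kernel

theorem rot3_5 : T.rot 3 [8, 3, 8] (sel (ones 120) ip3 5) = true := by decide +kernel

theorem rot3_5r : band (Rule.ok (2 * 9) EX RL ⟨3 :: [8, 3, 8], [], 4, false⟩) (lall (memL L) [8, 3, 8]) = true := by decide +kernel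

theorem rot3_6 : T.rot 3 [9, 3, 9] (sel (ones 120) ip3 6) = true := by decide +kernel

theorem rot3_6r : band (Rule.ok (2 * 9) EX RL ⟨3 :: [9, 3, 9], [], 5, false⟩) (lall (memL L) [9, 3, 9]) = true := by decide +kernel

theorem rot3_7 : T.rot 3 [4, 3, 4, 3, 4] (sel (ones 120) ip3 7) = true := by decide +kernel

theorem rot3_7r : band (Rule.ok (2 * 9) EX RL ⟨3 :: [4, 3, 4, 3, 4], [], 0, false⟩) (lall (memL L) [4, 3, 4, 3, 4]) = true := by decide +kernel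

theorem rot3_8 : T.rot 3 [2, 3, 2, 3, 2] (sel (ones 120) ip3 8) = true := by decide +kernel

theorem rot3_8r : band (Rule.ok (2 * 9) EX RL ⟨3 :: [2, 3, 2, 3, 2], [], 7, false⟩) (lall (memL L) [2, 3, 2, 3, 2]) = true := by decide +kernel

theorem rot3_9 : T.rot 3 [4, 5, 6, 7, 8, 9, 3, 4, 5, 6, 7, 8, 9, 3, 4, 5, 6, 7, 8, 9, 3, 4, 5, 6, 7, 8, 9, 3, 4, 5, 6, 7, 8, 9, 3, 4, 5, 6, 7, 8, 9, 3, 4, 5, 6, 7, 8, 9, 3, 4, 5, 6, 7, 8, 9, 1, 3, 4, 5, 6, 7, 8, 9] (sel (ones 120) ip3 9) = true := by decide +kernel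

theorem rot3_9r : band (Rule.ok (2 * 9) EX RL ⟨3 :: [4, 5, 6, 7, 8, 9, 3, 4, 5, 6, 7, 8, 9, 3, 4, 5, 6, 7, 8, 9, 3, 4, 5, 6, 7, 8, 9, 3, 4, 5, 6, 7, 8, 9, 3, 4, 5, 6, 7, 8, 9, 3, 4, 5, 6, 7, 8, 9, 3, 4, 5, 6, 7, 8, 9, 1, 3, 4, 5, 6, 7, 8, 9], [4, 6, 8, 10, 12, 14, 16], 36, true⟩) (lall (memL L) [4, 5, 6, 7, 8, 9, 3, 4, 5, 6, 7, 8, 9, 3, 4, 5, 6, 7, 8, 9, 3, 4, 5, 6, 7, 8, 9, 3, 4, 5, 6, 7, 8, 9, 3, 4, 5, 6, 7, 8, 9, 3, 4, 5, 6, 7, 8, 9, 3, 4, 5, 6, 7, 8, 9, 1, 3, 4, 5, 6, 7, 8, 9]) = true := by decide +kernel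

theorem rot3_10 : T.rot 3 [4, 5, 6, 7, 8, 9, 3, 4, 5, 6, 7, 8, 9, 3, 4, 5, 6, 7, 8, 9, 3, 4, 5, 6, 7, 8, 9, 1, 3, 4, 5, 6, 7, 8, 9, 3, 4, 5, 6, 7, 8, 9, 3, 4, 5, 6, 7, 8, 9, 3, 4, 5, 6, 7, 8, 9, 3, 4, 5, 6, 7, 8, 9] (sel (ones 120) ip3 10) = true := by decide +kernel

theorem rot3_10r : band (Rule.ok (2 * 9) EX RL ⟨3 :: [4, 5, 6, 7, 8, 9, 3, 4, 5, 6, 7, 8, 9, 3, 4, 5, 6, 7, 8, 9, 3, 4, 5, 6, 7, 8, 9, 1, 3, 4, 5, 6, 7, 8, 9, 3, 4, 5, 6, 7, 8, 9, 3, 4, 5, 6, 7, 8, 9, 3, 4, 5, 6, 7, 8, 9, 3, 4, 5, 6, 7, 8, 9], [0, 16, 14, 12, 10, 8, 6, 4, 16, 14, 12, 10, 8, 6, 4, 16, 14, 12, 10, 8, 6, 4, 16, 14, 12, 10, 8, 6, 4], 36, true⟩) (lall (memL L) [4, 5, 6, 7, 8, 9, 3, 4, 5, 6, 7, 8, 9, 3, 4, 5, 6, 7, 8, 9, 3, 4, 5, 6, 7, 8, 9, 1, 3, 4, 5, 6, 7, 8, 9, 3, 4, 5, 6, 7, 8, 9, 3, 4, 5, 6, 7, 8, 9, 3, 4, 5, 6, 7, 8, 9, 3, 4, 5, 6, 7, 8, 9]) = true := by decide +kernel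

theorem rot3_11 : T.rot 3 [9, 8, 7, 6, 5, 4, 3, 9, 8, 7, 6, 5, 4, 3, 9, 8, 7, 6, 5, 4, 3, 9, 8, 7, 6, 5, 4, 3, 9, 8, 7, 6, 5, 4, 3, 9, 8, 7, 6, 5, 4, 3, 9, 8, 7, 6, 5, 4, 3, 9, 8, 7, 6, 5, 4, 3, 1, 9, 8, 7, 6, 5, 4] (sel (ones 120) ip3 11) = true := by decide +kernel

theorem rot3_11r : band (Rule.ok (2 * 9) EX RL ⟨3 :: [9, 8, 7, 6, 5, 4, 3, 9, 8, 7, 6, 5, 4, 3, 9, 8, 7, 6, 5, 4, 3, 9, 8, 7, 6, 5, 4, 3, 9, 8, 7, 6, 5, 4, 3, 9, 8, 7, 6, 5, 4, 3, 9, 8, 7, 6, 5, 4, 3, 9, 8, 7, 6, 5, 4, 3, 1, 9, 8, 7, 6, 5, 4], [0, 16, 14, 12, 10, 8, 6], 36, false⟩) (lall (memL L) [9, 8, 7, 6, 5, 4, 3, 9, 8, 7, 6, 5, 4, 3, 9, 8, 7, 6, 5, 4, 3, 9, 8, 7, 6, 5, 4, 3, 9, 8, 7, 6, 5, 4, 3, 9, 8, 7, 6, 5, 4, 3, 9, 8, 7, 6, 5, 4, 3, 9, 8, 7, 6, 5, 4, 3, 1, 9, 8, 7, 6, 5, 4]) = true := by decide +kernel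

theorem rot3_12 : T.rot 3 [9, 8, 7, 6, 5, 4, 3, 9, 8, 7, 6, 5, 4, 3, 9, 8, 7, 6, 5, 4, 3, 9, 8, 7, 6, 5, 4, 3, 9, 8, 7, 6, 5, 4, 3, 9, 8, 7, 6, 5, 4, 3, 9, 8, 7, 6, 5, 4, 3, 1, 9, 8, 7, 6, 5, 4, 3, 9, 8, 7, 6, 5, 4] (sel (ones 120) ip3 12) = true := by decide +kernel

theorem rot3_12r : band (Rule.ok (2 * 9) EX RL ⟨3 :: [9, 8, 7, 6, 5, 4, 3, 9, 8, 7, 6, 5, 4, 3, 9, 8, 7, 6, 5, 4, 3, 9, 8, 7, 6, 5, 4, 3, 9, 8, 7, 6, 5, 4, 3, 9, 8, 7, 6, 5, 4, 3, 9, 8, 7, 6, 5, 4, 3, 1, 9, 8, 7, 6, 5, 4, 3, 9, 8, 7, 6, 5, 4], [0, 16, 14, 12, 10, 8, 6, 4, 16, 14, 12, 10, 8, 6], 36, false⟩) (lall (memL L) [9, 8, 7, 6, 5, 4, 3, 9, 8, 7, 6, 5, 4, 3, 9, 8, 7, 6, 5, 4, 3, 9, 8, 7, 6, 5, 4, 3, 9, 8, 7, 6, 5, 4, 3, 9, 8, 7, 6, 5, 4, 3, 9, 8, 7, 6, 5, 4, 3, 1, 9, 8, 7, 6, 5, 4, 3, 9, 8, 7, 6, 5, 4]) = true := by decide +kernel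

theorem cov3 : T.cover 3 [(sel (ones 120) ip3 1), (sel (ones 120) ip3 2), (sel (ones 120) ip3 3), (sel (ones 120) ip3 4), (sel (ones 120) ip3 5), (sel (ones 120) ip3 6), (sel (ones 120) ip3 7), (sel (ones 120) ip3 8), (sel (ones 120) ip3 9), (sel (ones 120) ip3 10), (sel (ones 120) ip3 11), (sel (ones 120) ip3 12), 1] = true := by decide +kernel

theorem tl3 : T.treeLt 7 3 = true := by decide +kernel

theorem rot4_1 : T.rot 4 [4] (sel (ones 120) ip4 1) = true := by decide +kernel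

theorem rot4_1r : band (Rule.ok (2 * 9) EX RL ⟨4 :: [4], [], 37, false⟩) (lall (memL L) [4]) = true := by decide +kernel

theorem rot4_2 : T.rot 4 [6, 4, 6] (sel (ones 120) ip4 2) = true := by decide +kernel

theorem rot4_2r : band (Rule.ok (2 * 9) EX RL ⟨4 :: [6, 4, 6], [], 9, false⟩) (lall (memL L) [6, 4, 6]) = true := by decide +kernel

theorem rot4_3 : T.rot 4 [7, 4, 7] (sel (ones 120) ip4 3) = true := by decide +kernel

theorem rot4_3r : band (Rule.ok (2 * 9) EX RL ⟨4 :: [7, 4, 7], [], 10, false⟩) (lall (memL L) [7, 4, 7]) = true := by decide +kernel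

theorem rot4_4 : T.rot 4 [8, 4, 8] (sel (ones 120) ip4 4) = true := by decide +kernel

theorem rot4_4r : band (Rule.ok (2 * 9) EX RL ⟨4 :: [8, 4, 8], [], 11, false⟩) (lall (memL L) [8, 4, 8]) = true := by decide +kernel

theorem rot4_5 : T.rot 4 [9, 4, 9] (sel (ones 120) ip4 5) = true := by decide +kernel

theorem rot4_5r : band (Rule.ok (2 * 9) EX RL ⟨4 :: [9, 4, 9], [], 12, false⟩) (lall (memL L) [9, 4, 9]) = true := by decide +kernel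

theorem rot4_6 : T.rot 4 [1, 4, 1] (sel (ones 120) ip4 6) = true := by decide +kernel

theorem rot4_6r : band (Rule.ok (2 * 9) EX RL ⟨4 :: [1, 4, 1], [], 13, false⟩) (lall (memL L) [1, 4, 1]) = true := by decide +kernel

theorem rot4_7 : T.rot 4 [2, 4, 2] (sel (ones 120) ip4 7) = true := by decide +kernel

theorem rot4_7r : band (Rule.ok (2 * 9) EX RL ⟨4 :: [2, 4, 2], [], 14, false⟩) (lall (memL L) [2, 4, 2]) = true := by decide +kernel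

theorem rot4_8 : T.rot 4 [3, 4, 3, 4, 3] (sel (ones 120) ip4 8) = true := by decide +kernel

theorem rot4_8r : band (Rule.ok (2 * 9) EX RL ⟨4 :: [3, 4, 3, 4, 3], [], 0, true⟩) (lall (memL L) [3, 4, 3, 4, 3]) = true := by decide +kernel

theorem rot4_9 : T.rot 4 [5, 4, 5, 4, 5] (sel (ones 120) ip4 9) = true := by decide +kernel

theorem rot4_9r : band (Rule.ok (2 * 9) EX RL ⟨4 :: [5, 4, 5, 4, 5], [], 8, false⟩) (lall (memL L) [5, 4, 5, 4, 5]) = true := by decide +kernel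

theorem rot4_10 : T.rot 4 [5, 6, 7, 8, 9, 3, 4, 5, 6, 7, 8, 9, 3, 4, 5, 6, 7, 8, 9, 3, 4, 5, 6, 7, 8, 9, 3, 4, 5, 6, 7, 8, 9, 3, 4, 5, 6, 7, 8, 9, 3, 4, 5, 6, 7, 8, 9, 1, 3, 4, 5, 6, 7, 8, 9, 3, 4, 5, 6, 7, 8, 9, 3] (sel (ones 120) ip4 10) = true := by decide +kernel

theorem rot4_10r : band (Rule.ok (2 * 9) EX RL ⟨4 :: [5, 6, 7, 8, 9, 3, 4, 5, 6, 7, 8, 9, 3, 4, 5, 6, 7, 8, 9, 3, 4, 5, 6, 7, 8, 9, 3, 4, 5, 6, 7, 8, 9, 3, 4, 5, 6, 7, 8, 9, 3, 4, 5, 6, 7, 8, 9, 1, 3, 4, 5, 6, 7, 8, 9, 3, 4, 5, 6, 7, 8, 9, 3], [4, 6, 8, 10, 12, 14, 16, 4, 6, 8, 10, 12, 14, 16, 4], 36, true⟩) (lall (memL L) [5, 6, 7, 8, 9, 3, 4, 5, 6, 7, 8, 9, 3, 4, 5, 6, 7, 8, 9, 3, 4, 5, 6, 7, 8, 9, 3, 4, 5, 6, 7, 8, 9, 3, 4, 5, 6, 7, 8, 9, 3, 4, 5, 6, 7, 8, 9, 1, 3, 4, 5, 6, 7, 8, 9, 3, 4, 5, 6, 7, 8, 9, 3]) = true := by decide +kernel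

theorem cov4 : T.cover 4 [(sel (ones 120) ip4 1), (sel (ones 120) ip4 2), (sel (ones 120) ip4 3), (sel (ones 120) ip4 4), (sel (ones 120) ip4 5), (sel (ones 120) ip4 6), (sel (ones 120) ip4 7), (sel (ones 120) ip4 8), (sel (ones 120) ip4 9), (sel (ones 120) ip4 10), 1] = true := by decide +kernel

theorem tl4 : T.treeLt 7 4 = true := by decide +kernel

theorem rot5_1 : T.rot 5 [5] (sel (ones 120) ip5 1) = true := by decide +kernel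

theorem rot5_1r : band (Rule.ok (2 * 9) EX RL ⟨5 :: [5], [], 37, false⟩) (lall (memL L) [5]) = true := by decide +kernel

theorem rot5_2 : T.rot 5 [3, 5, 3] (sel (ones 120) ip5 2) = true := by decide +kernel

theorem rot5_2r : band (Rule.ok (2 * 9) EX RL ⟨5 :: [3, 5, 3], [], 1, true⟩) (lall (memL L) [3, 5, 3]) = true := by decide +kernel

theorem rot5_3 : T.rot 5 [7, 5, 7] (sel (ones 120) ip5 3) = true := by decide +kernel

theorem rot5_3r : band (Rule.ok (2 * 9) EX RL ⟨5 :: [7, 5, 7], [], 16, false⟩) (lall (memL L) [7, 5, 7]) = true := by decide +kernel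

theorem rot5_4 : T.rot 5 [8, 5, 8] (sel (ones 120) ip5 4) = true := by decide +kernel

theorem rot5_4r : band (Rule.ok (2 * 9) EX RL ⟨5 :: [8, 5, 8], [], 17, false⟩) (lall (memL L) [8, 5, 8]) = true := by decide +kernel

theorem rot5_5 : T.rot 5 [9, 5, 9] (sel (ones 120) ip5 5) = true := by decide +kernel

theorem rot5_5r : band (Rule.ok (2 * 9) EX RL ⟨5 :: [9, 5, 9], [], 18, false⟩) (lall (memL L) [9, 5, 9]) = true := by decide +kernel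

theorem rot5_6 : T.rot 5 [1, 5, 1] (sel (ones 120) ip5 6) = true := by decide +kernel

theorem rot5_6r : band (Rule.ok (2 * 9) EX RL ⟨5 :: [1, 5, 1], [], 19, false⟩) (lall (memL L) [1, 5, 1]) = true := by decide +kernel

theorem rot5_7 : T.rot 5 [2, 5, 2] (sel (ones 120) ip5 7) = true := by decide +kernel

theorem rot5_7r : band (Rule.ok (2 * 9) EX RL ⟨5 :: [2, 5, 2], [], 20, false⟩) (lall (memL L) [2, 5, 2]) = true := by decide +kernel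

theorem rot5_8 : T.rot 5 [4, 5, 4, 5, 4] (sel (ones 120) ip5 8) = true := by decide +kernel

theorem rot5_8r : band (Rule.ok (2 * 9) EX RL ⟨5 :: [4, 5, 4, 5, 4], [], 8, true⟩) (lall (memL L) [4, 5, 4, 5, 4]) = true := by decide +kernel

theorem rot5_9 : T.rot 5 [6, 5, 6, 5, 6] (sel (ones 120) ip5 9) = true := by decide +kernel

theorem rot5_9r : band (Rule.ok (2 * 9) EX RL ⟨5 :: [6, 5, 6, 5, 6], [], 15, false⟩) (lall (memL L) [6, 5, 6, 5, 6]) = true := by decide +kernel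

theorem rot5_10 : T.rot 5 [6, 7, 8, 9, 3, 4, 5, 6, 7, 8, 9, 3, 4, 5, 6, 7, 8, 9, 3, 4, 5, 6, 7, 8, 9, 3, 4, 5, 6, 7, 8, 9, 3, 4, 5, 6, 7, 8, 9, 3, 4, 5, 6, 7, 8, 9, 3, 4, 5, 6, 7, 8, 9, 3, 4, 5, 6, 7, 8, 9, 1, 3, 4] (sel (ones 120) ip5 10) = true := by decide +kernel

theorem rot5_10r : band (Rule.ok (2 * 9) EX RL ⟨5 :: [6, 7, 8, 9, 3, 4, 5, 6, 7, 8, 9, 3, 4, 5, 6, 7, 8, 9, 3, 4, 5, 6, 7, 8, 9, 3, 4, 5, 6, 7, 8, 9, 3, 4, 5, 6, 7, 8, 9, 3, 4, 5, 6, 7, 8, 9, 3, 4, 5, 6, 7, 8, 9, 3, 4, 5, 6, 7, 8, 9, 1, 3, 4], [4, 6], 36, true⟩) (lall (memL L) [6, 7, 8, 9, 3, 4, 5, 6, 7, 8, 9, 3, 4, 5, 6, 7, 8, 9, 3, 4, 5, 6, 7, 8, 9, 3, 4, 5, 6, 7, 8, 9, 3, 4, 5, 6, 7, 8, 9, 3, 4, 5, 6, 7, 8, 9, 3, 4, 5, 6, 7, 8, 9, 3, 4, 5, 6, 7, 8, 9, 1, 3, 4]) = true := by decide +kernel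

theorem rot5_11 : T.rot 5 [6, 7, 8, 9, 3, 4, 5, 6, 7, 8, 9, 3, 4, 5, 6, 7, 8, 9, 3, 4, 5, 6, 7, 8, 9, 1, 3, 4, 5, 6, 7, 8, 9, 3, 4, 5, 6, 7, 8, 9, 3, 4, 5, 6, 7, 8, 9, 3, 4, 5, 6, 7, 8, 9, 3, 4, 5, 6, 7, 8, 9, 3, 4] (sel (ones 120) ip5 11) = true := by decide +kernel

theorem rot5_11r : band (Rule.ok (2 * 9) EX RL ⟨5 :: [6, 7, 8, 9, 3, 4, 5, 6, 7, 8, 9, 3, 4, 5, 6, 7, 8, 9, 3, 4, 5, 6, 7, 8, 9, 1, 3, 4, 5, 6, 7, 8, 9, 3, 4, 5, 6, 7, 8, 9, 3, 4, 5, 6, 7, 8, 9, 3, 4, 5, 6, 7, 8, 9, 3, 4, 5, 6, 7, 8, 9, 3, 4], [0, 16, 14, 12, 10, 8, 6, 4, 16, 14, 12, 10, 8, 6, 4, 16, 14, 12, 10, 8, 6, 4, 16, 14, 12, 10, 8], 36, true⟩) (lall (memL L) [6, 7, 8, 9, 3, 4, 5, 6, 7, 8, 9, 3, 4, 5, 6, 7, 8, 9, 3, 4, 5, 6, 7, 8, 9, 1, 3, 4, 5, 6, 7, 8, 9, 3, 4, 5, 6, 7, 8, 9, 3, 4, 5, 6, 7, 8, 9, 3, 4, 5, 6, 7, 8, 9, 3, 4, 5, 6, 7, 8, 9, 3, 4]) = true := by decide +kernel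

theorem rot5_12 : T.rot 5 [4, 3, 9, 8, 7, 6, 5, 4, 3, 9, 8, 7, 6, 5, 4, 3, 9, 8, 7, 6, 5, 4, 3, 9, 8, 7, 6, 5, 4, 3, 9, 8, 7, 6, 5, 4, 3, 9, 8, 7, 6, 5, 4, 3, 9, 8, 7, 6, 5, 4, 3, 9, 8, 7, 6, 5, 4, 3, 1, 9, 8, 7, 6] (sel (ones 120) ip5 12) = true := by decide +kernel

theorem rot5_12r : band (Rule.ok (2 * 9) EX RL ⟨5 :: [4, 3, 9, 8, 7, 6, 5, 4, 3, 9, 8, 7, 6, 5, 4, 3, 9, 8, 7, 6, 5, 4, 3, 9, 8, 7, 6, 5, 4, 3, 9, 8, 7, 6, 5, 4, 3, 9, 8, 7, 6, 5, 4, 3, 9, 8, 7, 6, 5, 4, 3, 9, 8, 7, 6, 5, 4, 3, 1, 9, 8, 7, 6], [0, 16, 14, 12, 10], 36, false⟩) (lall (memL L) [4, 3, 9, 8, 7, 6, 5, 4, 3, 9, 8, 7, 6, 5, 4, 3, 9, 8, 7, 6, 5, 4, 3, 9, 8, 7, 6, 5, 4, 3, 9, 8, 7, 6, 5, 4, 3, 9, 8, 7, 6, 5, 4, 3, 9, 8, 7, 6, 5, 4, 3, 9, 8, 7, 6, 5, 4, 3, 1, 9, 8, 7, 6]) = true := by decide +kernel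

theorem cov5 : T.cover 5 [(sel (ones 120) ip5 1), (sel (ones 120) ip5 2), (sel (ones 120) ip5 3), (sel (ones 120) ip5 4), (sel (ones 120) ip5 5), (sel (ones 120) ip5 6), (sel (ones 120) ip5 7), (sel (ones 120) ip5 8), (sel (ones 120) ip5 9), (sel (ones 120) ip5 10), (sel (ones 120) ip5 11), (sel (ones 120) ip5 12), 1] = true := by decide +kernel

theorem tl5 : T.treeLt 7 5 = true := by decide +kernel

theorem rot6_1 : T.rot 6 [6] (sel (ones 120) ip6 1) = true := by decide +kernel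

theorem rot6_1r : band (Rule.ok (2 * 9) EX RL ⟨6 :: [6], [], 37, false⟩) (lall (memL L) [6]) = true := by decide +kernel

theorem rot6_2 : T.rot 6 [3, 6, 3] (sel (ones 120) ip6 2) = true := by decide +kernel

theorem rot6_2r : band (Rule.ok (2 * 9) EX RL ⟨6 :: [3, 6, 3], [], 2, true⟩) (lall (memL L) [3, 6, 3]) = true := by decide +kernel

theorem rot6_3 : T.rot 6 [4, 6, 4] (sel (ones 120) ip6 3) = true := by decide +kernel

theorem rot6_3r : band (Rule.ok (2 * 9) EX RL ⟨6 :: [4, 6, 4], [], 9, true⟩) (lall (memL L) [4, 6, 4]) = true := by decide +kernel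

theorem rot6_4 : T.rot 6 [8, 6, 8] (sel (ones 120) ip6 4) = true := by decide +kernel

theorem rot6_4r : band (Rule.ok (2 * 9) EX RL ⟨6 :: [8, 6, 8], [], 22, false⟩) (lall (memL L) [8, 6, 8]) = true := by decide +kernel

theorem rot6_5 : T.rot 6 [1, 6, 1] (sel (ones 120) ip6 5) = true := by decide +kernel

theorem rot6_5r : band (Rule.ok (2 * 9) EX RL ⟨6 :: [1, 6, 1], [], 24, false⟩) (lall (memL L) [1, 6, 1]) = true := by decide +kernel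

theorem rot6_6 : T.rot 6 [2, 6, 2] (sel (ones 120) ip6 6) = true := by decide +kernel

theorem rot6_6r : band (Rule.ok (2 * 9) EX RL ⟨6 :: [2, 6, 2], [], 25, false⟩) (lall (memL L) [2, 6, 2]) = true := by decide +kernel

theorem rot6_7 : T.rot 6 [5, 6, 5, 6, 5] (sel (ones 120) ip6 7) = true := by decide +kernel

theorem rot6_7r : band (Rule.ok (2 * 9) EX RL ⟨6 :: [5, 6, 5, 6, 5], [], 15, true⟩) (lall (memL L) [5, 6, 5, 6, 5]) = true := by decide +kernel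

theorem rot6_8 : T.rot 6 [7, 6, 7, 6, 7] (sel (ones 120) ip6 8) = true := by decide +kernel

theorem rot6_8r : band (Rule.ok (2 * 9) EX RL ⟨6 :: [7, 6, 7, 6, 7], [], 21, false⟩) (lall (memL L) [7, 6, 7, 6, 7]) = true := by decide +kernel

theorem rot6_9 : T.rot 6 [9, 6, 9, 6, 9] (sel (ones 120) ip6 9) = true := by decide +kernel

theorem rot6_9r : band (Rule.ok (2 * 9) EX RL ⟨6 :: [9, 6, 9, 6, 9], [], 23, false⟩) (lall (memL L) [9, 6, 9, 6, 9]) = true := by decide +kernel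

theorem cov6 : T.cover 6 [(sel (ones 120) ip6 1), (sel (ones 120) ip6 2), (sel (ones 120) ip6 3), (sel (ones 120) ip6 4), (sel (ones 120) ip6 5), (sel (ones 120) ip6 6), (sel (ones 120) ip6 7), (sel (ones 120) ip6 8), (sel (ones 120) ip6 9), 1] = true := by decide +kernel

theorem tl6 : T.treeLt 7 6 = true := by decide +kernel

theorem rot7_1 : T.rot 7 [7] (sel (ones 120) ip7 1) = true := by decide +kernel

theorem rot7_1r : band (Rule.ok (2 * 9) EX RL ⟨7 :: [7], [], 37, false⟩) (lall (memL L) [7]) = true := by decide +kernel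

theorem rot7_2 : T.rot 7 [3, 7, 3] (sel (ones 120) ip7 2) = true := by decide +kernel

theorem rot7_2r : band (Rule.ok (2 * 9) EX RL ⟨7 :: [3, 7, 3], [], 3, true⟩) (lall (memL L) [3, 7, 3]) = true := by decide +kernel

theorem rot7_3 : T.rot 7 [4, 7, 4] (sel (ones 120) ip7 3) = true := by decide +kernel

theorem rot7_3r : band (Rule.ok (2 * 9) EX RL ⟨7 :: [4, 7, 4], [], 10, true⟩) (lall (memL L) [4, 7, 4]) = true := by decide +kernel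

theorem rot7_4 : T.rot 7 [5, 7, 5] (sel (ones 120) ip7 4) = true := by decide +kernel

theorem rot7_4r : band (Rule.ok (2 * 9) EX RL ⟨7 :: [5, 7, 5], [], 16, true⟩) (lall (memL L) [5, 7, 5]) = true := by decide +kernel

theorem rot7_5 : T.rot 7 [9, 7, 9] (sel (ones 120) ip7 5) = true := by decide +kernel

theorem rot7_5r : band (Rule.ok (2 * 9) EX RL ⟨7 :: [9, 7, 9], [], 27, false⟩) (lall (memL L) [9, 7, 9]) = true := by decide +kernel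

theorem rot7_6 : T.rot 7 [1, 7, 1] (sel (ones 120) ip7 6) = true := by decide +kernel

theorem rot7_6r : band (Rule.ok (2 * 9) EX RL ⟨7 :: [1, 7, 1], [], 28, false⟩) (lall (memL L) [1, 7, 1]) = true := by decide +kernel

theorem rot7_7 : T.rot 7 [2, 7, 2] (sel (ones 120) ip7 7) = true := by decide +kernel

theorem rot7_7r : band (Rule.ok (2 * 9) EX RL ⟨7 :: [2, 7, 2], [], 29, false⟩) (lall (memL L) [2, 7, 2]) = true := by decide +kernel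

theorem rot7_8 : T.rot 7 [6, 7, 6, 7, 6] (sel (ones 120) ip7 8) = true := by decide +kernel

theorem rot7_8r : band (Rule.ok (2 * 9) EX RL ⟨7 :: [6, 7, 6, 7, 6], [], 21, true⟩) (lall (memL L) [6, 7, 6, 7, 6]) = true := by decide +kernel

theorem rot7_9 : T.rot 7 [8, 7, 8, 7, 8] (sel (ones 120) ip7 9) = true := by decide +kernel

theorem rot7_9r : band (Rule.ok (2 * 9) EX RL ⟨7 :: [8, 7, 8, 7, 8], [], 26, false⟩) (lall (memL L) [8, 7, 8, 7, 8]) = true := by decide +kernel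

theorem rot7_10 : T.rot 7 [8, 9, 3, 4, 5, 6, 7, 8, 9, 3, 4, 5, 6, 7, 8, 9, 3, 4, 5, 6, 7, 8, 9, 3, 4, 5, 6, 7, 8, 9, 3, 4, 5, 6, 7, 8, 9, 3, 4, 5, 6, 7, 8, 9, 1, 3, 4, 5, 6, 7, 8, 9, 3, 4, 5, 6, 7, 8, 9, 3, 4, 5, 6] (sel (ones 120) ip7 10) = true := by decide +kernel

theorem rot7_10r : band (Rule.ok (2 * 9) EX RL ⟨7 :: [8, 9, 3, 4, 5, 6, 7, 8, 9, 3, 4, 5, 6, 7, 8, 9, 3, 4, 5, 6, 7, 8, 9, 3, 4, 5, 6, 7, 8, 9, 3, 4, 5, 6, 7, 8, 9, 3, 4, 5, 6, 7, 8, 9, 1, 3, 4, 5, 6, 7, 8, 9, 3, 4, 5, 6, 7, 8, 9, 3, 4, 5, 6], [4, 6, 8, 10, 12, 14, 16, 4, 6, 8, 10, 12, 14, 16, 4, 6, 8, 10], 36, true⟩) (lall (memL L) [8, 9, 3, 4, 5, 6, 7, 8, 9, 3, 4, 5, 6, 7, 8, 9, 3, 4, 5, 6, 7, 8, 9, 3, 4, 5, 6, 7, 8, 9, 3, 4, 5, 6, 7, 8, 9, 3, 4, 5, 6, 7, 8, 9, 1, 3, 4, 5, 6, 7, 8, 9, 3, 4, 5, 6, 7, 8, 9, 3, 4, 5, 6]) = true := by decide +kernel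

theorem cov7 : T.cover 7 [(sel (ones 120) ip7 1), (sel (ones 120) ip7 2), (sel (ones 120) ip7 3), (sel (ones 120) ip7 4), (sel (ones 120) ip7 5), (sel (ones 120) ip7 6), (sel (ones 120) ip7 7), (sel (ones 120) ip7 8), (sel (ones 120) ip7 9), (sel (ones 120) ip7 10), 1] = true := by decide +kernel

theorem tl7 : T.treeLt 7 7 = true := by decide +kernel

theorem rot8_1 : T.rot 8 [8] (sel (ones 120) ip8 1) = true := by decide +kernel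

theorem rot8_1r : band (Rule.ok (2 * 9) EX RL ⟨8 :: [8], [], 37, false⟩) (lall (memL L) [8]) = true := by decide +kernel

theorem rot8_2 : T.rot 8 [3, 8, 3] (sel (ones 120) ip8 2) = true := by decide +kernel

theorem rot8_2r : band (Rule.ok (2 * 9) EX RL ⟨8 :: [3, 8, 3], [], 4, true⟩) (lall (memL L) [3, 8, 3]) = true := by decide +kernel

theorem rot8_3 : T.rot 8 [4, 8, 4] (sel (ones 120) ip8 3) = true := by decide +kernel

theorem rot8_3r : band (Rule.ok (2 * 9) EX RL ⟨8 :: [4, 8, 4], [], 11, true⟩) (lall (memL L) [4, 8, 4]) = true := by decide +kernel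

theorem rot8_4 : T.rot 8 [5, 8, 5] (sel (ones 120) ip8 4) = true := by decide +kernel

theorem rot8_4r : band (Rule.ok (2 * 9) EX RL ⟨8 :: [5, 8, 5], [], 17, true⟩) (lall (memL L) [5, 8, 5]) = true := by decide +kernel

theorem rot8_5 : T.rot 8 [6, 8, 6] (sel (ones 120) ip8 5) = true := by decide +kernel

theorem rot8_5r : band (Rule.ok (2 * 9) EX RL ⟨8 :: [6, 8, 6], [], 22, true⟩) (lall (memL L) [6, 8, 6]) = true := by decide +kernel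

theorem rot8_6 : T.rot 8 [9, 8, 9] (sel (ones 120) ip8 6) = true := by decide +kernel

theorem rot8_6r : band (Rule.ok (2 * 9) EX RL ⟨8 :: [9, 8, 9], [], 30, false⟩) (lall (memL L) [9, 8, 9]) = true := by decide +kernel

theorem rot8_7 : T.rot 8 [1, 8, 1] (sel (ones 120) ip8 7) = true := by decide +kernel

theorem rot8_7r : band (Rule.ok (2 * 9) EX RL ⟨8 :: [1, 8, 1], [], 31, false⟩) (lall (memL L) [1, 8, 1]) = true := by decide +kernel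

theorem rot8_8 : T.rot 8 [2, 8, 2] (sel (ones 120) ip8 8) = true := by decide +kernel

theorem rot8_8r : band (Rule.ok (2 * 9) EX RL ⟨8 :: [2, 8, 2], [], 32, false⟩) (lall (memL L) [2, 8, 2]) = true := by decide +kernel

theorem rot8_9 : T.rot 8 [7, 8, 7, 8, 7] (sel (ones 120) ip8 9) = true := by decide +kernel

theorem rot8_9r : band (Rule.ok (2 * 9) EX RL ⟨8 :: [7, 8, 7, 8, 7], [], 26, true⟩) (lall (memL L) [7, 8, 7, 8, 7]) = true := by decide +kernel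

theorem cov8 : T.cover 8 [(sel (ones 120) ip8 1), (sel (ones 120) ip8 2), (sel (ones 120) ip8 3), (sel (ones 120) ip8 4), (sel (ones 120) ip8 5), (sel (ones 120) ip8 6), (sel (ones 120) ip8 7), (sel (ones 120) ip8 8), (sel (ones 120) ip8 9), 1] = true := by decide +kernel

theorem tl8 : T.treeLt 7 8 = true := by decide +kernel

theorem rot9_1 : T.rot 9 [9] (sel (ones 120) ip9 1) = true := by decide +kernel

theorem rot9_1r : band (Rule.ok (2 * 9) EX RL ⟨9 :: [9], [], 37, false⟩) (lall (memL L) [9]) = true := by decide +kernel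

theorem rot9_2 : T.rot 9 [3, 9, 3] (sel (ones 120) ip9 2) = true := by decide +kernel

theorem rot9_2r : band (Rule.ok (2 * 9) EX RL ⟨9 :: [3, 9, 3], [], 5, true⟩) (lall (memL L) [3, 9, 3]) = true := by decide +kernel

theorem rot9_3 : T.rot 9 [4, 9, 4] (sel (ones 120) ip9 3) = true := by decide +kernel

theorem rot9_3r : band (Rule.ok (2 * 9) EX RL ⟨9 :: [4, 9, 4], [], 12, true⟩) (lall (memL L) [4, 9, 4]) = true := by decide +kernel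

theorem rot9_4 : T.rot 9 [5, 9, 5] (sel (ones 120) ip9 4) = true := by decide +kernel

theorem rot9_4r : band (Rule.ok (2 * 9) EX RL ⟨9 :: [5, 9, 5], [], 18, true⟩) (lall (memL L) [5, 9, 5]) = true := by decide +kernel

theorem rot9_5 : T.rot 9 [7, 9, 7] (sel (ones 120) ip9 5) = true := by decide +kernel

theorem rot9_5r : band (Rule.ok (2 * 9) EX RL ⟨9 :: [7, 9, 7], [], 27, true⟩) (lall (memL L) [7, 9, 7]) = true := by decide +kernel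

theorem rot9_6 : T.rot 9 [8, 9, 8] (sel (ones 120) ip9 6) = true := by decide +kernel

theorem rot9_6r : band (Rule.ok (2 * 9) EX RL ⟨9 :: [8, 9, 8], [], 30, true⟩) (lall (memL L) [8, 9, 8]) = true := by decide +kernel

theorem rot9_7 : T.rot 9 [1, 9, 1] (sel (ones 120) ip9 7) = true := by decide +kernel

theorem rot9_7r : band (Rule.ok (2 * 9) EX RL ⟨9 :: [1, 9, 1], [], 33, false⟩) (lall (memL L) [1, 9, 1]) = true := by decide +kernel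

theorem rot9_8 : T.rot 9 [2, 9, 2] (sel (ones 120) ip9 8) = true := by decide +kernel

theorem rot9_8r : band (Rule.ok (2 * 9) EX RL ⟨9 :: [2, 9, 2], [], 34, false⟩) (lall (memL L) [2, 9, 2]) = true := by decide +kernel

theorem rot9_9 : T.rot 9 [6, 9, 6, 9, 6] (sel (ones 120) ip9 9) = true := by decide +kernel

theorem rot9_9r : band (Rule.ok (2 * 9) EX RL ⟨9 :: [6, 9, 6, 9, 6], [], 23, true⟩) (lall (memL L) [6, 9, 6, 9, 6]) = true := by decide +kernel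

theorem rot9_10 : T.rot 9 [3, 4, 5, 6, 7, 8, 9, 3, 4, 5, 6, 7, 8, 9, 3, 4, 5, 6, 7, 8, 9, 3, 4, 5, 6, 7, 8, 9, 3, 4, 5, 6, 7, 8, 9, 3, 4, 5, 6, 7, 8, 9, 3, 4, 5, 6, 7, 8, 9, 1, 3, 4, 5, 6, 7, 8, 9, 3, 4, 5, 6, 7, 8] (sel (ones 120) ip9 10) = true := by decide +kernel

theorem rot9_10r : band (Rule.ok (2 * 9) EX RL ⟨9 :: [3, 4, 5, 6, 7, 8, 9, 3, 4, 5, 6, 7, 8, 9, 3, 4, 5, 6, 7, 8, 9, 3, 4, 5, 6, 7, 8, 9, 3, 4, 5, 6, 7, 8, 9, 3, 4, 5, 6, 7, 8, 9, 3, 4, 5, 6, 7, 8, 9, 1, 3, 4, 5, 6, 7, 8, 9, 3, 4, 5, 6, 7, 8], [4, 6, 8, 10, 12, 14, 16, 4, 6, 8, 10, 12, 14], 36, true⟩) (lall (memL L) [3, 4, 5, 6, 7, 8, 9, 3, 4, 5, 6, 7, 8, 9, 3, 4, 5, 6, 7, 8, 9, 3, 4, 5, 6, 7, 8, 9, 3, 4, 5, 6, 7, 8, 9, 3, 4, 5, 6, 7, 8, 9, 3, 4, 5, 6, 7, 8, 9, 1, 3, 4, 5, 6, 7, 8, 9, 3, 4, 5, 6, 7, 8]) = true := by decide +kernel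

theorem cov9 : T.cover 9 [(sel (ones 120) ip9 1), (sel (ones 120) ip9 2), (sel (ones 120) ip9 3), (sel (ones 120) ip9 4), (sel (ones 120) ip9 5), (sel (ones 120) ip9 6), (sel (ones 120) ip9 7), (sel (ones 120) ip9 8), (sel (ones 120) ip9 9), (sel (ones 120) ip9 10), 1] = true := by decide +kernel

theorem tl9 : T.treeLt 7 9 = true := by decide +kernel

end Cfsg.Agent.Spor.Fi120
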