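import Cfsg.Agent.Spor.Chk

set_option autoImplicit false
set_option maxRecDepth 100000000
set_option Elab.async false
noncomputable section

namespace Cfsg.Agent.Spor.Fi120

def m0_0 : Nat := nat_lit 0x2000
def m0_1 : Nat := nat_lit 0x8000000000001120b8
def m0_2 : Nat := nat_lit 0x80c000000800000200400004039
def m0_3 : Nat := nat_lit 0x2000f00870003000a004400000048
def m0_4 : Nat := nat_lit 0x300020003000501020108000808
def m0_5 : Nat := nat_lit 0x2000300030030002000012120000103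
def m0_6 : Nat := nat_lit 0x150000000500410440100045
def m0_7 : Nat := nat_lit 0x10110100020
def m0_8 : Nat := nat_lit 0x300020003000500020108000008
def m0_9 : Nat := nat_lit 0x2000c00070003000a004400700048
def m0_10 : Nat := nat_lit 0x80c000000800000200400000819
def m0_11 : Nat := nat_lit 0x8000000000001120b8
def m0_12 : Nat := nat_lit 0x2000
def n0 : Net := Net.cons 64 m0_0 (Net.cons 32 m0_1 (Net.cons 16 m0_2 (Net.cons 8 m0_3 (Net.cons 4 m0_4 (Net.cons 2 m0_5 (Net.cons 1 m0_6 (Net.cons 2 m0_7 (Net.cons 4 m0_8 (Net.cons 8 m0_9 (Net.cons 16 m0_10 (Net.cons 32 m0_11 (Net.cons 64 m0_12 (Net.nil)))))))))))))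

def m1_0 : Nat := nat_lit 0x1000000000001800
def m1_1 : Nat := nat_lit 0x460000000000000180c
def m1_2 : Nat := nat_lit 0x4110000242200001c0100001004
def m1_3 : Nat := nat_lit 0xa0011002000000021000600d0
def m1_4 : Nat := nat_lit 0x10c010806000400020006000001020c
def m1_5 : Nat := nat_lit 0x1001010010200101200030000033110
def m1_6 : Nat := nat_lit 0x4041401000100000451004000141
def m1_7 : Nat := nat_lit 0x1010000000100000000000000110
def m1_8 : Nat := nat_lit 0x1000108040000000200060000010208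
def m1_9 : Nat := nat_lit 0xa0011002000000021000600d0
def m1_10 : Nat := nat_lit 0x4110000242200001c0100001004
def m1_11 : Nat := nat_lit 0x460000000000000180c
def m1_12 : Nat := nat_lit 0x1000000000001800
def n1 : Net := Net.cons 64 m1_0 (Net.cons 32 m1_1 (Net.cons 16 m1_2 (Net.cons 8 m1_3 (Net.cons 4 m1_4 (Net.cons 2 m1_5 (Net.cons 1 m1_6 (Net.cons 2 m1_7 (Net.cons 4 m1_8 (Net.cons 8 m1_9 (Net.cons 16 m1_10 (Net.cons 32 m1_11 (Net.cons 64 m1_12 (Net.nil)))))))))))))

def m2_0 : Nat := nat_lit 0x80000000001810a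
def m2_1 : Nat := nat_lit 0x2900000000000018103
def m2_2 : Nat := nat_lit 0x20e000008900000410200000003
def m2_3 : Nat := nat_lit 0x4e001200040080000800070020
def m2_4 : Nat := nat_lit 0x10300060002040201010000000103
def m2_5 : Nat := nat_lit 0x2000301311002021112010000010001
def m2_6 : Nat := nat_lit 0x101504044000401040540401010100
def m2_7 : Nat := nat_lit 0x1011000001010010001000000
def m2_8 : Nat := nat_lit 0x10300060002040201010000000101
def m2_9 : Nat := nat_lit 0xe001200040080000800000020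
def m2_10 : Nat := nat_lit 0x20e000008900000410200000003
def m2_11 : Nat := nat_lit 0x2900000000000018103
def m2_12 : Nat := nat_lit 0x80000000001810a
def n2 : Net := Net.cons 64 m2_0 (Net.cons 32 m2_1 (Net.cons 16 m2_2 (Net.cons 8 m2_3 (Net.cons 4 m2_4 (Net.cons 2 m2_5 (Net.cons 1 m2_6 (Net.cons 2 m2_7 (Net.cons 4 m2_8 (Net.cons 8 m2_9 (Net.cons 16 m2_10 (Net.cons 32 m2_11 (Net.cons 64 m2_12 (Net.nil)))))))))))))

def m3_0 : Nat := nat_lit 0x300000000003000
def m3_1 : Nat := nat_lit 0x210400a00000000008002000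
def m3_2 : Nat := nat_lit 0x304000015410000104800000800
def m3_3 : Nat := nat_lit 0x2004a004000050081004200000002
def m3_4 : Nat := nat_lit 0x1010202010000040402080801020102
def m3_5 : Nat := nat_lit 0x120121110010111120010010200132
def m3_6 : Nat := nat_lit 0x10404400010100104000510140000450
def m3_7 : Nat := nat_lit 0x100100010000101000010010000100
def m3_8 : Nat := nat_lit 0x1010002010000040402080001020102
def m3_9 : Nat := nat_lit 0x2004a004000050081004200000002
def m3_10 : Nat := nat_lit 0x304000014010000104800000800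
def m3_11 : Nat := nat_lit 0x210400a00000000008002000
def m3_12 : Nat := nat_lit 0x300000000003000
def n3 : Net := Net.cons 64 m3_0 (Net.cons 32 m3_1 (Net.cons 16 m3_2 (Net.cons 8 m3_3 (Net.cons 4 m3_4 (Net.cons 2 m3_5 (Net.cons 1 m3_6 (Net.cons 2 m3_7 (Net.cons 4 m3_8 (Net.cons 8 m3_9 (Net.cons 16 m3_10 (Net.cons 32 m3_11 (Net.cons 64 m3_12 (Net.nil)))))))))))))

def m4_0 : Nat := nat_lit 0x600000000004019
def m4_1 : Nat := nat_lit 0x61000000000e0000019
def m4_2 : Nat := nat_lit 0x64e000005200000c07400004002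
def m4_3 : Nat := nat_lit 0x4b000100010000006a00000015
def m4_4 : Nat := nat_lit 0x300000100010402050200000207
def m4_5 : Nat := nat_lit 0x100001001000101030300110000000
def m4_6 : Nat := nat_lit 0x404000004004104451545010000051
def m4_7 : Nat := nat_lit 0x100000001000101000000010000000
def m4_8 : Nat := nat_lit 0x100000402050200000004
def m4_9 : Nat := nat_lit 0x43000100010000006a00000015
def m4_10 : Nat := nat_lit 0x4e000005200000c07400004002
def m4_11 : Nat := nat_lit 0x61000000000e0000019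
def m4_12 : Nat := nat_lit 0x600000000004019
def n4 : Net := Net.cons 64 m4_0 (Net.cons 32 m4_1 (Net.cons 16 m4_2 (Net.cons 8 m4_3 (Net.cons 4 m4_4 (Net.cons 2 m4_5 (Net.cons 1 m4_6 (Net.cons 2 m4_7 (Net.cons 4 m4_8 (Net.cons 8 m4_9 (Net.cons 16 m4_10 (Net.cons 32 m4_11 (Net.cons 64 m4_12 (Net.nil)))))))))))))

def m5_0 : Nat := nat_lit 0x1000000000000a4
def m5_1 : Nat := nat_lit 0x402098000000000000000e4
def m5_2 : Nat := nat_lit 0x5010000294b000006a400002020
def m5_3 : Nat := nat_lit 0x40060000000000000008800e10020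
def m5_4 : Nat := nat_lit 0x40400090800020001050000040400
def m5_5 : Nat := nat_lit 0x102010001110200001101000100110
def m5_6 : Nat := nat_lit 0x10000004010000000154010110410
def m5_7 : Nat := nat_lit 0x1010000000101000100110
def m5_8 : Nat := nat_lit 0x40000000800020001050000040000
def m5_9 : Nat := nat_lit 0x40060000000000000008800210020
def m5_10 : Nat := nat_lit 0x4010000290b0000060400002020
def m5_11 : Nat := nat_lit 0x402098000000000000000e4
def m5_12 : Nat := nat_lit 0x1000000000000a4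
def n5 : Net := Net.cons 64 m5_0 (Net.cons 32 m5_1 (Net.cons 16 m5_2 (Net.cons 8 m5_3 (Net.cons 4 m5_4 (Net.cons 2 m5_5 (Net.cons 1 m5_6 (Net.cons 2 m5_7 (Net.cons 4 m5_8 (Net.cons 8 m5_9 (Net.cons 16 m5_10 (Net.cons 32 m5_11 (Net.cons 64 m5_12 (Net.nil)))))))))))))

def m6_0 : Nat := nat_lit 0x1400000000020011
def m6_1 : Nat := nat_lit 0x40044bc0000000080000019
def m6_2 : Nat := nat_lit 0x1400000015ac0000809500000108
def m6_3 : Nat := nat_lit 0x82000000000054001a0041
def m6_4 : Nat := nat_lit 0xc0f00000000070502010804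
def m6_5 : Nat := nat_lit 0x1000001000102000200020110000
def m6_6 : Nat := nat_lit 0x4414400011004104010004
def m6_7 : Nat := nat_lit 0x100100000000000010000
def m6_8 : Nat := nat_lit 0x20502010004
def m6_9 : Nat := nat_lit 0x82000000000054000a0040
def m6_10 : Nat := nat_lit 0x1000000014ac0000809500000108
def m6_11 : Nat := nat_lit 0x40044bc0000000080000019
def m6_12 : Nat := nat_lit 0x1400000000020011
def n6 : Net := Net.cons 64 m6_0 (Net.cons 32 m6_1 (Net.cons 16 m6_2 (Net.cons 8 m6_3 (Net.cons 4 m6_4 (Net.cons 2 m6_5 (Net.cons 1 m6_6 (Net.cons 2 m6_7 (Net.cons 4 m6_8 (Net.cons 8 m6_9 (Net.cons 16 m6_10 (Net.cons 32 m6_11 (Net.cons 64 m6_12 (Net.nil)))))))))))))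

def m7_0 : Nat := nat_lit 0x2548
def m7_1 : Nat := nat_lit 0x2002458
def m7_2 : Nat := nat_lit 0xa510000279000004130
def m7_3 : Nat := nat_lit 0xa00000083003200380060
def m7_4 : Nat := nat_lit 0x40809030b0a050000000002
def m7_5 : Nat := nat_lit 0x200010210210300102002
def m7_6 : Nat := nat_lit 0x41001504410044501100000
def m7_7 : Nat := nat_lit 0x2010010000100000
def m7_8 : Nat := nat_lit 0x40801030402000100000002
def m7_9 : Nat := nat_lit 0xa00000083002b00200020
def m7_10 : Nat := nat_lit 0xa510000279000004130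
def m7_11 : Nat := nat_lit 0x2002458
def m7_12 : Nat := nat_lit 0x2548
def n7 : Net := Net.cons 64 m7_0 (Net.cons 32 m7_1 (Net.cons 16 m7_2 (Net.cons 8 m7_3 (Net.cons 4 m7_4 (Net.cons 2 m7_5 (Net.cons 1 m7_6 (Net.cons 2 m7_7 (Net.cons 4 m7_8 (Net.cons 8 m7_9 (Net.cons 16 m7_10 (Net.cons 32 m7_11 (Net.cons 64 m7_12 (Net.nil)))))))))))))

def m8_0 : Nat := nat_lit 0x50
def m8_1 : Nat := nat_lit 0x202000000000000045a
def m8_2 : Nat := nat_lit 0xfe0000020a000001d000008213
def m8_3 : Nat := nat_lit 0xaa0000000000010016007d0018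
def m8_4 : Nat := nat_lit 0x10602020800000001020301080500
def m8_5 : Nat := nat_lit 0x100310002100000000032001100301
def m8_6 : Nat := nat_lit 0x1505000100000010050044414004
def m8_7 : Nat := nat_lit 0x100000000000001100001
def m8_8 : Nat := nat_lit 0x10602000800000001020201080500
def m8_9 : Nat := nat_lit 0x2a000000000001001600410018
def m8_10 : Nat := nat_lit 0xfe0000020a0000018000008213
def m8_11 : Nat := nat_lit 0x202000000000000045a
def m8_12 : Nat := nat_lit 0x50
def n8 : Net := Net.cons 64 m8_0 (Net.cons 32 m8_1 (Net.cons 16 m8_2 (Net.cons 8 m8_3 (Net.cons 4 m8_4 (Net.cons 2 m8_5 (Net.cons 1 m8_6 (Net.cons 2 m8_7 (Net.cons 4 m8_8 (Net.cons 8 m8_9 (Net.cons 16 m8_10 (Net.cons 32 m8_11 (Net.cons 64 m8_12 (Net.nil)))))))))))))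

def cl1 : Nat := nat_lit 0xffffffffffffffffffffffffffffff
def tm1_0 : Nat := nat_lit 0xe007ffc008ffff8001ffc01fe078e5
def tm1_1 : Nat := nat_lit 0xeff8000000fffffffe00001fff80f8
def tm1_2 : Nat := nat_lit 0xeffbffbff70000000000001fffff00
def tm1_3 : Nat := nat_lit 0xeffbffbff7ffffffffffffe0000000
def tm1_4 : Nat := nat_lit 0x100400400800000000000000000000
def ip1_0 : Nat := nat_lit 0xcb8d6926543ce4ccc8e66ccea46ae4
def ip1_1 : Nat := nat_lit 0x28609cd9cbe3c3e3cc1e0389aa90b9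
def ip1_2 : Nat := nat_lit 0x161d85b036403d303781e04828cd00
def ip1_3 : Nat := nat_lit 0xc9a26246081c000c00601c36552241
def ip1 : List Nat := [ip1_0, ip1_1, ip1_2, ip1_3]
def l1 : Let := ⟨0, false, cl1, 0x4, [tm1_0, tm1_1, tm1_2, tm1_3, tm1_4]⟩

def cl2 : Nat := nat_lit 0xffffffffffffffffffffffffffffff
def tt2 : Nat := nat_lit 0x400800000000000000000042
def tm2_0 : Nat := nat_lit 0xfe087f78089ffdf0007ff007f83c62
def tm2_1 : Nat := nat_lit 0x327c60b60063fd83fe603c19e3a6ac
def tm2_2 : Nat := nat_lit 0xeff31f01f600000000603c1fffd900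
def tm2_3 : Nat := nat_lit 0xeff37f37f67ffdffff9fc3e0000000
def tm2_4 : Nat := nat_lit 0x80080080000000000000000000
def ip2_0 : Nat := nat_lit 0xcf3626dc2a4c19383721983659a546
def ip2_1 : Nat := nat_lit 0xcf320a026034d8d8fb279cbcf127a0
def ip2_2 : Nat := nat_lit 0x9bafe7bc1648252404e07c7e7dc800
def ip2_3 : Nat := nat_lit 0x20401001808300030018030102100c
def ip2 : List Nat := [ip2_0, ip2_1, ip2_2, ip2_3]
def l2 : Let := ⟨1, false, cl2, tt2, [tm2_0, tm2_1, tm2_2, tm2_3, tm2_4]⟩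

def cl3 : Nat := nat_lit 0xffffffffffffffffffffffffffffff
def tt3 : Nat := nat_lit 0x80180020000000000001018
def tm3_0 : Nat := nat_lit 0xef3d3f2e0983ff3c001ffc01fc1c78
def tm3_1 : Nat := nat_lit 0xf34bc1900a03fd3ff7e00001ffe060
def tm3_2 : Nat := nat_lit 0xdc360e607443000f00780f06f9cd80
def tm3_3 : Nat := nat_lit 0xfd765e65fc4cfd30f787f0f8000000
def tm3_4 : Nat := nat_lit 0x8020020010000000000000000000
def ip3_0 : Nat := nat_lit 0xa79492a5581e606c0ce64c9a458b8
def ip3_1 : Nat := nat_lit 0x235b4b20f417fc1ff3f7faf5d76da0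
def ip3_2 : Nat := nat_lit 0x25029e974248c121c43e1fbef980a0
def ip3_3 : Nat := nat_lit 0xdcb420400810000000000000000040
def ip3 : List Nat := [ip3_0, ip3_1, ip3_2, ip3_3]
def l3 : Let := ⟨2, false, cl3, tt3, [tm3_0, tm3_1, tm3_2, tm3_3, tm3_4]⟩

def cl4 : Nat := nat_lit 0xffffffffffffffffffffffffffffff
def tt4 : Nat := nat_lit 0x2003000c0080000008002a0
def tm4_0 : Nat := nat_lit 0x40ddcd230db2fce708077f00fc0ea4
def tm4_1 : Nat := nat_lit 0x12917935cfc13f2434e603817de006
def tm4_2 : Nat := nat_lit 0xdf2e8ec97009c003c01800007dfd00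
def tm4_3 : Nat := nat_lit 0x561c84c839883e2434e17c7e000000
def tm4_4 : Nat := nat_lit 0x204010008002000000000000000000
def ip4_0 : Nat := nat_lit 0xdd362e572a7859e1bc371b36d9a7a2
def ip4_1 : Nat := nat_lit 0x10856d755e4ba52604c261c30cc806
def ip4_2 : Nat := nat_lit 0x9926024088004001c03c1e3c710006
def ip4_3 : Nat := nat_lit 0x6658908821821a0030010000003500
def ip4 : List Nat := [ip4_0, ip4_1, ip4_2, ip4_3]
def l4 : Let := ⟨3, false, cl4, tt4, [tm4_0, tm4_1, tm4_2, tm4_3, tm4_4]⟩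

def cl5 : Nat := nat_lit 0xffffffffffffffffffffffffffffff
def tt5 : Nat := nat_lit 0x441000008006001803018000022500
def tm5_0 : Nat := nat_lit 0xd554ae20cbb63c19cb019f00fe2d4c
def tm5_1 : Nat := nat_lit 0xba281a254ff8bfe1f43e00007dc00e
def tm5_2 : Nat := nat_lit 0xbb6ee4da3000400000000000fdc850
def tm5_3 : Nat := nat_lit 0xbb6ee6fa1fb026c108381f3f000000
def tm5_4 : Nat := nat_lit 0x8004000800000000000000000
def ip5_0 : Nat := nat_lit 0xf5565e65bc4e7539b7379b375fed42
def ip5_1 : Nat := nat_lit 0x982c9ccd09c803201402010208805e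
def ip5_2 : Nat := nat_lit 0xb306024028005801e03c1e3c710056
def ip5_3 : Nat := nat_lit 0x26068325630a4c008000001844800
def ip5 : List Nat := [ip5_0, ip5_1, ip5_2, ip5_3]
def l5 : Let := ⟨4, false, cl5, tt5, [tm5_0, tm5_1, tm5_2, tm5_3, tm5_4]⟩

def cl6 : Nat := nat_lit 0xffffffffffffffffffffffffffffff
def tt6 : Nat := nat_lit 0x12c941204401a40600c060c1044800
def tm6_0 : Nat := nat_lit 0x1fc94f206dbfb4064fc067c13c58cc
def tm6_1 : Nat := nat_lit 0xe000020039be1af8400f000039920e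
def tm6_2 : Nat := nat_lit 0xed320c4b80000000000100003992f0
def tm6_3 : Nat := nat_lit 0xed320e4b89be02f84f0e870e000000
def tm6_4 : Nat := nat_lit 0x2000100000000000000000
def ip6_0 : Nat := nat_lit 0xfffb4322e437b4de0bc5e2c51548b4
def ip6_1 : Nat := nat_lit 0x4410004a89b612d80b01800000126a
def ip6_2 : Nat := nat_lit 0x4410004098061818430984082002d6
def ip6_3 : Nat := nat_lit 0xa9220e012008002004060306198000
def ip6 : List Nat := [ip6_0, ip6_1, ip6_2, ip6_3]
def l6 : Let := ⟨5, false, cl6, tt6, [tm6_0, tm6_1, tm6_2, tm6_3, tm6_4]⟩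

def cl7 : Nat := nat_lit 0xffffffffffffffffffffffffffffff
def tt7 : Nat := nat_lit 0x4bc950248012014020102088000
def tm7_0 : Nat := nat_lit 0x1fc4bfb52adaa5215d421542a8b1cc
def tm7_1 : Nat := nat_lit 0xe00003200c92b64be03c0a5471360e
def tm7_2 : Nat := nat_lit 0xfffb400020004c00000000402037f0
def tm7_3 : Nat := nat_lit 0xfffb43202c92ca4b4968b428820000
def tm7_4 : Nat := nat_lit 0x200000000000000000
def ip7_0 : Nat := nat_lit 0xa926be952a585961fc3e1f3ef9a262
def ip7_1 : Nat := nat_lit 0x8902240080000008236fe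
def ip7_2 : Nat := nat_lit 0xed32020008021008a1148a145127d6
def ip7_3 : Nat := nat_lit 0x12c941202400ec0340683468200000
def ip7 : List Nat := [ip7_0, ip7_1, ip7_2, ip7_3]
def l7 : Let := ⟨6, false, cl7, tt7, [tm7_0, tm7_1, tm7_2, tm7_3, tm7_4]⟩

def cl8 : Nat := nat_lit 0xffffffffffffffffffffffffffffff
def tt8 : Nat := nat_lit 0x1000080040080408200000
def tm8_0 : Nat := nat_lit 0x1fc003f75831a9e648cd644da171cc
def tm8_1 : Nat := nat_lit 0xe00003fd6fc9d20780f57af0417e0e
def tm8_2 : Nat := nat_lit 0xfffff84a89b622d82b008000017ff0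
def tm8_3 : Nat := nat_lit 0xffffffb50648212024050285960000
def ip8_0 : Nat := nat_lit 0x12cdfdb75679a9e64ccc64c8b04cb4
def ip8_1 : Nat := nat_lit 0xa922020a21b052c188341ab1d354bc
def ip8_2 : Nat := nat_lit 0xfffb4320e407f01fa3f1f870514d94
def ip8_3 : Nat := nat_lit 0x4bcd50a48012004000004042242
def ip8 : List Nat := [ip8_0, ip8_1, ip8_2, ip8_3]
def l8 : Let := ⟨7, false, cl8, tt8, [tm8_0, tm8_1, tm8_2, tm8_3, 0x0]⟩

def cl9 : Nat := nat_lit 0xffffffffffffffffffffffffffffff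
def tt9 : Nat := nat_lit 0xa922020020005001a0341a34510000
def tm9_0 : Nat := nat_lit 0xf926be002bfff401aff41a74d131cc
def tm9_1 : Nat := nat_lit 0x561804001bffa7fe0000004000360e
def tm9_2 : Nat := nat_lit 0x561cb8dfc0002000000000400037f0
def tm9_3 : Nat := nat_lit 0x561cb8dfcbff83fe0fc0e000820000
def tm9_4 : Nat := nat_lit 0x4001000040000000000000000
def ip9_0 : Nat := nat_lit 0xa922be976279f1e7acf47a74d104b4
def ip9_1 : Nat := nat_lit 0x618000a11b006c0080000008214bc
def ip9_2 : Nat := nat_lit 0xbc95824e053807008000000594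
def ip9_3 : Nat := nat_lit 0x500400405801a00600c06040002242
def ip9 : List Nat := [ip9_0, ip9_1, ip9_2, ip9_3]
def l9 : Let := ⟨8, false, cl9, tt9, [tm9_0, tm9_1, tm9_2, tm9_3, tm9_4]⟩

def NT : List Net := [n0, n1, n2, n3, n4, n5, n6, n7, n8]
def LT : List Let := [⟨0, false, 0, 0, []⟩, l1, l2, l3, l4, l5, l6, l7, l8, l9]
def T : Tab := ⟨NT, LT⟩
def EX : List (List Nat) := [[], [0], [2], [4], [6], [8], [10], [12], [14], [16]]
def RL : List (List Nat) := [[4, 6, 4, 6, 4, 6], [4, 8, 4, 8], [4, 10, 4, 10], [4, 12, 4, 12], [4, 14, 4, 14], [4, 16, 4, 16], [4, 0, 4, 0], [4, 2, 4, 2, 4, 2], [6, 8, 6, 8, 6, 8], [6, 10, 6, 10], [6, 12, 6, 12], [6, 14, 6, 14], [6, 16, 6, 16], [6, 0, 6, 0], [6, 2, 6, 2], [8, 10, 8, 10, 8, 10], [8, 12, 8, 12], [8, 14, 8, 14], [8, 16, 8, 16], [8, 0, 8, 0], [8, 2, 8, 2], [10, 12, 10, 12, 10, 12], [10, 14, 10, 14], [10, 16, 10, 16, 10, 16], [10, 0, 10, 0], [10, 2, 10, 2], [12, 14, 12, 14, 12, 14], [12, 16, 12, 16], [12,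 0, 12, 0], [12, 2, 12, 2], [14, 16, 14, 16], [14, 0, 14, 0], [14, 2, 14, 2], [16, 0, 16, 0], [16, 2, 16, 2], [0, 2, 0, 2, 0, 2], [0, 16, 14, 12, 10, 8, 6, 4, 16, 14, 12, 10, 8, 6, 4, 16, 14, 12, 10, 8, 6, 4, 16, 14, 12, 10, 8, 6, 4, 16, 14, 12, 10, 8, 6, 4, 16, 14, 12, 10, 8, 6, 4, 16, 14, 12, 10, 8, 6, 4, 16, 14, 12, 10, 8, 6, 4, 16, 14, 12, 10, 8, 6, 4]]
def XL : List (List Nat) := []
def BW : List (List Nat) := [[14], [12], [10], [8], [6], [4], [16]]
def IV : Nat := 0x9080706050403020100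
def L : List Nat := [1, 2, 3, 4, 5, 6, 7, 8, 9]
def gs : List Nat := [1, 2, 3, 4, 5, 6, 7, 8, 9]
def base : List Nat := [8, 7, 6, 5, 4, 3, 9]

end Cfsg.Agent.Spor.Fi120
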